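import Cfsg.Agent.H564.TWP.Sys
import Cfsg.Agent.H421.UniE.Abs

/-!
# Own characteristic of twisted groups: the system from root group data (helper564)

`R : RGD cs h p T n X` root group data (`Nodes.BNOf`) of a finite group `Y`.

* `RIn R C hh n'` : what has to be given: `T` commutative, coroot homomorphisms `hh i : C i →* Y` into `T` which
  generate `T`, `Y` generated by the rank one groups and `T`, `n' i ∈ T n i` and the rank one relation
  `u n'_i ∈ X (-α_i) hh_i(b) X (α_i)`;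
* `ofRGD R hin : TSys I C Y`;
* `wt_ofRGD` : `(ofRGD R hin).Wt k W`; `isPGroup_U`, `isPGroup_Um`.
-/

set_option autoImplicit false
set_option linter.unusedSectionVars false

namespace Cfsg.Agent.H564.TWP

open CoxeterSystem Cfsg.Agent.ChevalleyStructure.CoxeterGeom Cfsg.Agent.Tits.Roots Cfsg.Agent.Tits.Core
  Cfsg.Agent.Nodes.Comb Cfsg.Agent.Nodes.Reps Cfsg.Agent.Nodes.BNOf Cfsg.Agent.Nodes.RGDLib
open Cfsg.Agent.Nodes.OppDec
open Cfsg.Agent.H421.UniE (NegNe UN_eq X_neg_le_normalizer X_le_normalizer_neg mem_UN isPGroup_UN exists_vec)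

variable {I W Y : Type*} [Fintype I] [DecidableEq I] [Group W] [Group Y] {M : CoxeterMatrix I}
  {cs : CoxeterSystem M W} {A : I → I → ℤ} {h : IsCartan M A} {p : ℕ} {T : Subgroup Y} {n : I → Y}
  {X : (I → ℤ) → Subgroup Y}

/-- the input of `ofRGD` -/
structure RIn (_ : RGD cs h p T n X) (C : I → Type*) [∀ i, CommGroup (C i)] (hh : (i : I) → C i →* Y) (n' : I → Y) :
    Prop where
  comm : ∀ s ∈ T, ∀ t ∈ T, s * t = t * s
  hh_mem : ∀ i b, hh i b ∈ T
  H_gen : T ≤ Subgroup.closure {g | ∃ i b, g = hh i b}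
  gen : (⨆ i, (X (sr i) ⊔ X (-sr i))) ⊔ T = ⊤
  hn : ∀ i, ∃ t ∈ T, n' i = t * n i
  rank : ∀ i, ∀ u ∈ X (sr i), u ≠ 1 → ∃ y ∈ X (-sr i), ∃ b : C i, ∃ x ∈ X (sr i), u * n' i = y * hh i b * x

variable (R : RGD cs h p T n X) {C : I → Type*} [∀ i, CommGroup (C i)] {hh : (i : I) → C i →* Y} {n' : I → Y}

include R in
theorem cj_n_negNe (i : I) : cj (n i) (RGD.Sup X (NegNe cs h i)) ≤ RGD.Sup X (NegNe cs h i) := by
  rw [RGD.cj_Sup]
  refine iSup_le ?_
  rintro ⟨y, hy, hy0, hyi⟩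
  rw [R.conj i y hy]
  refine RGD.le_Sup ⟨hy.act _, ?_, ?_⟩
  · have h1 := hy.neg.simple_nonneg (neg_nonneg.2 hy0) i (fun e => hyi (by rw [← e, neg_neg]))
    rw [map_neg] at h1
    exact neg_nonneg.1 h1
  · intro he
    have h1 := congrArg (rep cs h (cs.simple i)) he
    rw [← rep_mul_apply, simple_mul_simple_self, map_one, Module.End.one_apply, map_neg, rep_simple_sr, neg_neg] at h1
    rw [h1] at hy0
    have h2 := hy0 i
    rw [sr_self] at h2
    exact absurd h2 (by simp)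

include R in
theorem T_conj {S : Set (I → ℤ)} (hS : ∀ x ∈ S, IsRoot cs h x) {t : Y} (ht : t ∈ T) {u : Y} (hu : u ∈ RGD.Sup X S) :
    t * u * t⁻¹ ∈ RGD.Sup X S := (Subgroup.mem_normalizer_iff.1 (R.T_le_normalizer hS ht) u).1 hu

include R in
theorem T_conj' {S : Set (I → ℤ)} (hS : ∀ x ∈ S, IsRoot cs h x) {t : Y} (ht : t ∈ T) {u : Y} (hu : u ∈ RGD.Sup X S) :
    t⁻¹ * u * t ∈ RGD.Sup X S := by
  have h1 := T_conj R hS (inv_mem ht) hu
  rwa [inv_inv] at h1

include R in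
theorem X_neg_conj (i : I) : cj (n i) (X (-sr i)) = X (sr i) := by
  rw [R.conj i _ (isRoot_sr cs h i).neg, map_neg, rep_simple_sr, neg_neg]

/-- **the system of root group data** -/
def ofRGD (hin : RIn R C hh n') : TSys I C Y where
  U := RGD.Sup X (RGD.Pos cs h)
  Um := UN cs h X
  H := T
  X i := X (sr i)
  Y i := X (-sr i)
  V i := RGD.Sup X (RGD.PosNe cs h i)
  Z i := RGD.Sup X (NegNe cs h i)
  n := n'
  hh := hh
  gen := by
    rw [eq_top_iff, ← hin.gen]
    set K := Subgroup.closure {g | g ∈ UN cs h X ∨ g ∈ T ∨ ∃ j, g = n' j} with hK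
    have hT : T ≤ K := fun t ht => Subgroup.subset_closure (Or.inr (Or.inl ht))
    have hn : ∀ i, n i ∈ K := by
      intro i
      obtain ⟨t, ht, e⟩ := hin.hn i
      have h1 : n i = t⁻¹ * n' i := by rw [e]; group
      rw [h1]
      exact mul_mem (inv_mem (hT ht)) (Subgroup.subset_closure (Or.inr (Or.inr ⟨i, rfl⟩)))
    have hneg : ∀ i, X (-sr i) ≤ K := by
      intro i u hu
      refine Subgroup.subset_closure (Or.inl ?_)
      exact X_le_UN (isRoot_sr cs h i).neg (neg_nonpos.2 (sr_nonneg i)) hu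
    refine sup_le (iSup_le fun i => sup_le ?_ (hneg i)) hT
    intro u hu
    rw [← X_neg_conj R i, mem_cj] at hu
    have h1 := mul_mem (mul_mem (hn i) (hneg i hu)) (inv_mem (hn i))
    have e : n i * ((n i)⁻¹ * u * n i) * (n i)⁻¹ = u := by group
    rwa [e] at h1
  H_comm := hin.comm
  hh_mem := hin.hh_mem
  H_gen := hin.H_gen
  n_sq i := by
    obtain ⟨t, ht, e⟩ := hin.hn i
    have h1 : n i * n i ∈ T := by
      have := R.nsys.rel i i
      rwa [M.diagonal, pow_one] at this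
    have h2 : n i * t * (n i)⁻¹ ∈ T := (Subgroup.mem_normalizer_iff.1 (R.nsys.norm i) t).1 ht
    have e1 : n' i * n' i = t * (n i * t * (n i)⁻¹) * (n i * n i) := by rw [e]; group
    rw [e1]
    exact mul_mem (mul_mem ht h2) h1
  X_ne i := by
    intro h0
    have h1 : X (-sr i) = ⊥ := by
      rw [eq_bot_iff]
      intro u hu
      have h2 : n i * u * (n i)⁻¹ ∈ X (sr i) := by
        rw [← X_neg_conj R i, mem_cj]
        have e : (n i)⁻¹ * (n i * u * (n i)⁻¹) * n i = u := by group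
        rwa [e]
      rw [h0, Subgroup.mem_bot] at h2
      rw [Subgroup.mem_bot]
      have h3 : n i * u = n i := mul_inv_eq_one.1 h2
      exact mul_eq_left.1 h3
    apply R.notp i
    rw [h0, h1, sup_bot_eq]
    exact IsPGroup.of_bot
  X_le i := RGD.le_Sup (S := RGD.Pos cs h) ⟨isRoot_sr cs h i, sr_nonneg i⟩
  Y_le i := X_le_UN (isRoot_sr cs h i).neg (neg_nonpos.2 (sr_nonneg i))
  Z_le i := by
    rw [UN_eq (X := X) i]
    exact le_sup_right
  U_eq i u hu := by
    have h1 : u ∈ ((X (sr i) ⊔ RGD.Sup X (RGD.PosNe cs h i) : Subgroup Y) : Set Y) := by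
      rw [← R.Upos_eq i]
      exact hu
    rw [Subgroup.coe_mul_of_left_le_normalizer_right _ _ (R.X_le_normalizer_V i), Set.mem_mul] at h1
    obtain ⟨x, hx, v, hv, e⟩ := h1
    exact ⟨x, hx, v, hv, e.symm⟩
  Um_eq i u hu := by
    obtain ⟨v, hv, y, hy, e⟩ := mem_UN R i hu
    exact ⟨v, hv, y, hy, e⟩
  V_le i := RGD.Sup_mono fun z hz => ⟨hz.1, hz.2.1⟩
  X_V i x hx v hv := by
    have h1 := (Subgroup.mem_normalizer_iff.1 (inv_mem (R.X_le_normalizer_V i hx)) v).1 hv
    rwa [inv_inv] at h1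
  n_V i v hv := by
    obtain ⟨t, ht, e⟩ := hin.hn i
    have h1 : t⁻¹ * v * t ∈ RGD.Sup X (RGD.PosNe cs h i) := T_conj' R (fun x hx => hx.1) ht hv
    rw [← R.cj_n_V i, mem_cj] at h1
    have e1 : (n' i)⁻¹ * v * n' i = (n i)⁻¹ * (t⁻¹ * v * t) * n i := by rw [e]; group
    rwa [e1]
  n_Z i z hz := by
    obtain ⟨t, ht, e⟩ := hin.hn i
    have h1 : n i * z * (n i)⁻¹ ∈ RGD.Sup X (NegNe cs h i) := by
      apply cj_n_negNe R i
      rw [mem_cj]
      have e : (n i)⁻¹ * (n i * z * (n i)⁻¹) * n i = z := by group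
      rwa [e]
    have h2 := T_conj R (S := NegNe cs h i) (fun x hx => hx.1) ht h1
    have e1 : n' i * z * (n' i)⁻¹ = t * (n i * z * (n i)⁻¹) * t⁻¹ := by rw [e]; group
    rwa [e1]
  n_Y i y hy := by
    obtain ⟨t, ht, e⟩ := hin.hn i
    have h1 : n i * y * (n i)⁻¹ ∈ X (sr i) := by
      rw [← X_neg_conj R i, mem_cj]
      have e : (n i)⁻¹ * (n i * y * (n i)⁻¹) * n i = y := by group
      rwa [e]
    rw [← R.tor _ (isRoot_sr cs h i) t ht, mem_cj]
    have e1 : t⁻¹ * (n' i * y * (n' i)⁻¹) * t = n i * y * (n i)⁻¹ := by rw [e]; group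
    rwa [e1]
  H_Um t ht u hu := T_conj R (S := Neg cs h) (fun x hx => hx.1) ht hu
  rank := hin.rank

variable (hin : RIn R C hh n')

theorem isPGroup_U [Finite W] : IsPGroup p (ofRGD R hin).U := R.isPGroup_Upos

theorem isPGroup_Um [Finite W] : IsPGroup p (ofRGD R hin).Um := isPGroup_UN R

/-- **common eigenvectors** -/
theorem wt_ofRGD [Finite W] [Finite Y] [Fact p.Prime] {k V : Type*} [Field k] [CharP k p] [IsAlgClosed k]
    [AddCommGroup V] [Module k V] : (ofRGD R hin).Wt k V := by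
  intro ρ hfd hnt
  obtain ⟨v, hv, hfix, hTv, hTi⟩ := exists_vec R ρ hin.comm
  refine ⟨v, hv, hfix, hTv, fun i => ?_⟩
  obtain ⟨t, ht, e⟩ := hin.hn i
  obtain ⟨c, hc⟩ := hTi i
  obtain ⟨d, hd⟩ := hTv t ht
  refine ⟨c * d, ?_⟩
  have hmul : ∀ (a b : Y) (x : V), ρ (a * b) x = ρ a (ρ b x) := fun a b x => by rw [map_mul]; rfl
  have h1 : (ofRGD R hin).Tj ρ i v = ρ t (Omega.CR.Ti n X ρ i v) := by
    classical
    let _ := Fintype.ofFinite (X (sr i))
    have htX : ∀ u ∈ X (sr i), t * u * t⁻¹ ∈ X (sr i) := by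
      intro u hu
      have h2 : t * u * t⁻¹ ∈ cj t (X (sr i)) := by
        rw [mem_cj]
        have e : t⁻¹ * (t * u * t⁻¹) * t = u := by group
        rwa [e]
      rwa [R.tor _ (isRoot_sr cs h i) t ht] at h2
    rw [Omega.CR.Ti_apply, Omega.CR.sg_def, map_sum]
    show ∑ u ∈ (Set.toFinite (X (sr i) : Set Y)).toFinset, ρ (u * n' i) v = _
    symm
    refine Finset.sum_bij' (fun (u : X (sr i)) _ => t * (u : Y) * t⁻¹)
      (fun u hu => ⟨t⁻¹ * u * t, ?_⟩) ?_ ?_ ?_ ?_ ?_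
    · have hu' : u ∈ X (sr i) := by simpa using hu
      rw [← R.tor _ (isRoot_sr cs h i) t ht] at hu'
      exact mem_cj.1 hu'
    · intro u _
      rw [Set.Finite.mem_toFinset]
      exact htX u u.2
    · intro u _
      exact Finset.mem_univ _
    · intro u _
      apply Subtype.ext
      show t⁻¹ * (t * (u : Y) * t⁻¹) * t = u
      group
    · intro u _
      show t * (t⁻¹ * u * t) * t⁻¹ = u
      group
    · intro u _
      rw [← hmul, ← hmul, e]
      congr 2
      group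
  rw [h1, hc, map_smul, hd, smul_smul]

end Cfsg.Agent.H564.TWP
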