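import Cfsg.Agent.H564.TWP.Def
import Cfsg.Agent.H203.TW.Low

/-!
# Own characteristic of twisted groups: the lowest component, constant exponent `q` (helper564)

* `low_A` : one root, the elements `z b s`, `s` in a finite set with more than `d` elements;
* `low_of_cls` : every positive root is single (at least `q` elements `z b s` in `P`) or in a pair (`H203.TW.TwCls`);
* `cmq_const`, `low_const` : the fields `cmq` and `low` of `Hyp` for the constant exponent `q`;
* `pairCls`, `pairCls'` : pairs of roots `a`, `b` of the same height, with elements `z a (t ^ q) z b t` resp.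
  `z a (t ^ q) z b t z c (κ t ^ q t)` in `P`.
-/

set_option autoImplicit false
set_option linter.unusedSectionVars false

namespace Cfsg.Agent.H564.TWP

open Polynomial Finset Cfsg.Agent.H45.Uni Cfsg.Agent.H45.UniE
open Cfsg.Agent.H564.TW (Cmq datQ)
open Cfsg.Agent.H203.TW (wd TwCls low_tw)

section low

variable {ι Φ k G : Type*} [Field k] [Group G] (D : DatR ι Φ k G) [Infinite k]

/-- the lowest component, for the root `i`, when all `z i s`, `s ∈ A`, fix `F` -/
theorem low_A {A : Finset k} {F : G → k} (hF : F ∈ D.L) (i : Φ) (h1 : ∀ s ∈ A, ∀ g, F (g * D.z i s) = F g) {n : ℕ}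
    (hlow : ∀ m < n, D.H m F = 0) {d : ℕ} (hd0 : 0 < d) (hdq : d < A.card) : D.X i d (D.H n F) = 0 := by
  funext g
  have hs : ∀ s ∈ A, ∀ (u : kˣ), ∀ g, F (g * D.z i ((u : k) ^ D.ht i * s) * D.δ u) = F (g * D.δ u) := by
    intro s hs u g
    rw [mul_assoc, ← D.δ_z u i s, ← mul_assoc, h1 s hs]
  -- polynomial identity
  choose r hrN hr using fun m : ℕ => D.L_pol_z (D.H_mem m hF) i g
  have hD := D.ht_pos i
  have h3 : ∀ s ∈ A, (∑ m ∈ range (D.N + 1), (expand k (D.ht i) ((r m).comp (C s * Polynomial.X))) *
      Polynomial.X ^ m : k[X]) =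
      ∑ m ∈ range (D.N + 1), C (D.H m F g) * Polynomial.X ^ m := fun s hsA => DatR.pol_ext fun u => by
    rw [eval_finsetSum, eval_finsetSum]
    have h4 := D.expand_δ hF (g * D.z i ((u : k) ^ D.ht i * s)) u
    have h5 := D.expand_δ hF g u
    rw [hs s hsA] at h4
    rw [h5] at h4
    simp only [eval_mul, eval_C, eval_pow, eval_X, eval_comp, expand_eval]
    rw [h4]
    exact Finset.sum_congr rfl fun m _ => by rw [hr, mul_comm ((u : k) ^ D.ht i)]
  by_cases hn : n ≤ D.N
  · have hr0 : ∀ m < n, r m = 0 := by
      intro m hm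
      apply DatR.pol_ext
      intro s
      rw [← hr, hlow m hm]
      simp
    have hc0 : ∀ m, (r m).coeff 0 = D.H m F g := by
      intro m
      rw [← D.X_apply (D.H_mem m hF) i 0 (hr m), D.X_zero (D.H_mem m hF)]
    -- the coefficient of `X ^ (n + D.ht i * d)`
    let P : k[X] := ∑ j ∈ range d, C (if n + D.ht i * (d - (j + 1)) ≤ D.N then
      (r (n + D.ht i * (d - (j + 1)))).coeff (j + 1) else 0) * Polynomial.X ^ (j + 1)
    have hP : ∀ s ∈ A, P.eval s = 0 := by
      intro s hsA
      have h4 := congrArg (fun P : k[X] => P.coeff (n + D.ht i * d)) (h3 s hsA)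
      simp only [finsetSum_coeff] at h4
      rw [Finset.sum_congr rfl (fun m _ => coeff_mul_X_pow' _ m (n + D.ht i * d)),
        Finset.sum_congr rfl (fun m _ => by rw [coeff_C_mul, coeff_X_pow] :
          ∀ m ∈ range (D.N + 1), (C (D.H m F g) * Polynomial.X ^ m : k[X]).coeff (n + D.ht i * d) =
            D.H m F g * if n + D.ht i * d = m then 1 else 0)] at h4
      simp only [coeff_expand hD, comp_C_mul_X_coeff] at h4
      -- rewrite the left side
      have h5 : ∀ m ∈ range (D.N + 1), (if m ≤ n + D.ht i * d then (if D.ht i ∣ n + D.ht i * d - m then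
          (r m).coeff ((n + D.ht i * d - m) / D.ht i) * s ^ ((n + D.ht i * d - m) / D.ht i) else 0) else 0) =
          (∑ j ∈ range d, if m = n + D.ht i * (d - (j + 1)) then (r m).coeff (j + 1) * s ^ (j + 1) else 0) +
            (D.H m F g * if n + D.ht i * d = m then 1 else 0) := by
        intro m _
        have hjd : ∀ j < d, D.ht i * (d - (j + 1)) + D.ht i * (j + 1) = D.ht i * d := by
          intro j hj
          rw [← Nat.mul_add]; congr 1; omega
        rcases lt_or_ge (n + D.ht i * d) m with hm | hm
        · rw [if_neg (by omega), if_neg (by omega), mul_zero, add_zero, Finset.sum_eq_zero]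
          intro j hj
          have := hjd j (Finset.mem_range.1 hj)
          rw [if_neg (by omega)]
        · rw [if_pos hm]
          by_cases hm2 : n + D.ht i * d = m
          · subst hm2
            rw [if_pos rfl, Nat.sub_self, if_pos (dvd_zero _), Nat.zero_div, hc0, pow_zero, Finset.sum_eq_zero, zero_add]
            intro j hj
            have := hjd j (Finset.mem_range.1 hj)
            have h6 : 0 < D.ht i * (j + 1) := Nat.mul_pos hD (Nat.succ_pos j)
            rw [if_neg (by omega)]
          · rw [if_neg hm2, mul_zero, add_zero]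
            by_cases hm3 : m < n
            · rw [hr0 m hm3]
              simp
            · by_cases hdv : D.ht i ∣ n + D.ht i * d - m
              · obtain ⟨j, hj⟩ := hdv
                have hjpos : 0 < j := by
                  rcases Nat.eq_zero_or_pos j with h6 | h6
                  · rw [h6, mul_zero] at hj; omega
                  · exact h6
                have hjle : j ≤ d := by
                  have h6 : D.ht i * j ≤ D.ht i * d := by omega
                  exact Nat.le_of_mul_le_mul_left h6 hD
                have h7 := hjd (j - 1) (by omega)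
                have h8 : j - 1 + 1 = j := by omega
                rw [h8] at h7
                rw [hj, if_pos (dvd_mul_right _ _), Nat.mul_div_cancel_left _ hD, Finset.sum_eq_single (j - 1)]
                · rw [h8, if_pos (by omega)]
                · intro i' hi' hi''
                  have h9 := hjd i' (Finset.mem_range.1 hi')
                  rw [if_neg]
                  intro h10
                  have h11 : D.ht i * (i' + 1) = D.ht i * j := by omega
                  have := Nat.eq_of_mul_eq_mul_left hD h11
                  omega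
                · intro h6
                  exact absurd (Finset.mem_range.2 (by omega)) h6
              · rw [if_neg hdv, Finset.sum_eq_zero]
                intro j hj
                have h9 := hjd j (Finset.mem_range.1 hj)
                rw [if_neg]
                intro h10
                exact hdv ⟨j + 1, by omega⟩
      rw [Finset.sum_congr rfl h5, Finset.sum_add_distrib] at h4
      have h6 := add_eq_right.1 h4
      rw [Finset.sum_comm] at h6
      rw [← h6]
      show (∑ j ∈ range d, C (if n + D.ht i * (d - (j + 1)) ≤ D.N then (r (n + D.ht i * (d - (j + 1)))).coeff (j + 1) else 0) *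
        Polynomial.X ^ (j + 1) : k[X]).eval s = _
      rw [eval_finsetSum]
      refine Finset.sum_congr rfl fun j hj => ?_
      rw [Finset.sum_ite_eq']
      simp only [eval_mul, eval_C, eval_pow, eval_X, Finset.mem_range]
      by_cases h7 : n + D.ht i * (d - (j + 1)) ≤ D.N
      · rw [if_pos h7, if_pos (by omega)]
      · rw [if_neg h7, if_neg (by omega), zero_mul]
    -- too many roots
    have hP0 : P = 0 := by
      classical
      by_contra hne
      have hdeg : P.natDegree ≤ d := by
        apply natDegree_sum_le_of_forall_le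
        intro j hj
        rw [Finset.mem_range] at hj
        exact (natDegree_C_mul_X_pow_le _ _).trans (by omega)
      have hroots : A ⊆ P.roots.toFinset := by
        intro x hx
        rw [Multiset.mem_toFinset, mem_roots hne]
        exact hP x hx
      have h7 := Finset.card_le_card hroots
      have h8 := (Multiset.toFinset_card_le P.roots).trans (card_roots' P)
      omega
    have h8 := congrArg (fun P : k[X] => P.coeff d) hP0
    have h9 : P.coeff d = (r n).coeff d := by
      show (∑ j ∈ range d, C (if n + D.ht i * (d - (j + 1)) ≤ D.N then (r (n + D.ht i * (d - (j + 1)))).coeff (j + 1) else 0) *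
        Polynomial.X ^ (j + 1) : k[X]).coeff d = _
      rw [finsetSum_coeff, Finset.sum_eq_single (d - 1)]
      · have e1 : d - 1 + 1 = d := by omega
        have e2 : n + D.ht i * (d - d) = n := by rw [Nat.sub_self, mul_zero, add_zero]
        rw [e1, e2, if_pos hn, coeff_C_mul, coeff_X_pow, if_pos rfl, mul_one]
      · intro j hj hj'
        rw [Finset.mem_range] at hj
        rw [coeff_C_mul, coeff_X_pow, if_neg (show ¬ d = j + 1 by omega), mul_zero]
      · intro h10
        exact absurd (Finset.mem_range.2 (by omega)) h10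
    rw [D.X_apply (D.H_mem n hF) i d (hr n), ← h9]
    exact h8
  · have h0 : D.H n F = 0 := by
      funext g
      obtain ⟨P, hP, h⟩ := D.L_pol_δ hF g
      rw [D.H_apply hF n h]
      exact coeff_eq_zero_of_natDegree_lt (by omega)
    rw [h0, map_zero]

/-- the roots which are covered -/
def Cov (D : GDat ι Φ k G) (Fq : Type*) [Field Fq] [Algebra Fq k] (P : Subgroup G) (q : ℕ) (b : Φ) : Prop :=
  (∃ A : Finset k, q ≤ A.card ∧ ∀ s ∈ A, D.z b s ∈ P) ∨ ∃ T : TwCls D Fq P q q, b = T.a ∨ b = T.b

/-- **twisted groups, constant exponent**: the lowest component of a function fixed by `P` is in `K` -/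
theorem low_of_cls {Fq : Type*} [Field Fq] [Fintype Fq] [Algebra Fq k] {P : Subgroup G} {q : ℕ}
    (hqq : ∀ b, D.qq b = q) (hcard : Fintype.card Fq = q * q) (hcls : ∀ b, Cov D.toGDat Fq P q b)
    (F : G → k) (hF : F ∈ D.L) (h1 : ∀ u ∈ P, ∀ g, F (g * u) = F g) (n : ℕ) (hlow : ∀ m < n, D.H m F = 0) :
    D.H n F ∈ D.K := by
  rw [DatR.mem_K]
  refine ⟨D.H_mem n hF, fun c m h0 hm => ?_⟩
  rw [hqq] at hm
  rcases hcls c with ⟨A, hA, hA'⟩ | ⟨T, hT⟩
  · exact low_A D hF c (fun s hs g => h1 _ (hA' s hs) g) hlow h0 (by omega)
  · have h2 := low_tw D hcard T.l T.hl T.ha T.hb T.h1 T.h2 hF (fun t g => h1 _ (T.mem t) g) hlow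
    rcases hT with rfl | rfl
    · exact h2.1 m h0 hm
    · exact h2.2 m h0 hm

end low

section cls

variable {ι Φ k G : Type*} [Field k] [Group G]

/-- the commutator formula, constant exponent -/
theorem cmq_const (D : GDat ι Φ k G) (q : ℕ) : Cmq D (fun _ => q) := by
  intro i b s
  obtain ⟨l, h1, h2⟩ := D.cmt i b s
  exact ⟨l, fun a ha => ⟨h1 a ha, Nat.le_mul_of_pos_left q (h1 a ha)⟩, h2⟩

/-- **the field `low` of `Hyp` for the constant exponent `q`** -/
theorem low_const [Infinite k] [DecidableEq ι] [Fintype ι] (D : FDat ι Φ k G) {Fq : Type*} [Field Fq] [Fintype Fq]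
    [Algebra Fq k] {P : Subgroup G} {q : ℕ} (hcard : Fintype.card Fq = q * q) (hcls : ∀ b, Cov D.toGDat Fq P q b)
    (hq : ∀ _ : Φ, 0 < q) (l : ι → ℕ) (hl : ∀ i, l i < (fun _ : Φ => q) (D.zi i)) :
    ∀ f ∈ (datQ D (fun _ => q) l hl hq (cmq_const D.toGDat q)).L,
    (∀ u ∈ P, ∀ g, f (g * u) = f g) →
      ∀ n, (∀ m < n, (datQ D (fun _ => q) l hl hq (cmq_const D.toGDat q)).H m f = 0) →
      (datQ D (fun _ => q) l hl hq (cmq_const D.toGDat q)).H n f ∈
        (datQ D (fun _ => q) l hl hq (cmq_const D.toGDat q)).K := by
  intro f hf h1 n hn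
  exact low_of_cls (datQ D (fun _ => q) l hl hq (cmq_const D.toGDat q)) (fun _ => rfl) hcard hcls f hf h1 n hn

/-- a pair of roots of the same height -/
def pairCls (D : GDat ι Φ k G) {Fq : Type*} [Field Fq] [Algebra Fq k] {P : Subgroup G} {q : ℕ} (hq : 1 < q) {a b : Φ}
    (hab : D.ht a = D.ht b) (h : ∀ t : Fq, D.z a (algebraMap Fq k t ^ q) * D.z b (algebraMap Fq k t) ∈ P) :
    TwCls D Fq P q q where
  a := a
  b := b
  l := [(a, 1, 1, 0), (b, 1, 0, 1)]
  hl := by
    intro x hx
    simp only [List.mem_cons, List.not_mem_nil, or_false] at hx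
    rcases hx with rfl | rfl <;> simp
  ha s := by
    simp [wd, GDat.z_zero]
  hb t := by
    simp [wd, GDat.z_zero]
  h1 := by
    have := D.ht_pos b
    rw [hab]
    nlinarith
  h2 := by
    have := D.ht_pos b
    rw [hab]
    nlinarith
  mem t := by
    have h1 := h t
    simpa [wd] using h1

/-- a pair of roots of the same height, whose sum (or any element `c` of twice the height) is a root -/
def pairCls' (D : GDat ι Φ k G) {Fq : Type*} [Field Fq] [Algebra Fq k] {P : Subgroup G} {q : ℕ} (hq : 1 < q) {a b c : Φ}
    (hab : D.ht a = D.ht b) (hc : D.ht c = D.ht a + D.ht b) (κ : k)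
    (h : ∀ t : Fq, D.z a (algebraMap Fq k t ^ q) * D.z b (algebraMap Fq k t) *
      D.z c (κ * algebraMap Fq k t ^ q * algebraMap Fq k t) ∈ P) : TwCls D Fq P q q where
  a := a
  b := b
  l := [(a, 1, 1, 0), (b, 1, 0, 1), (c, κ, 1, 1)]
  hl := by
    intro x hx
    simp only [List.mem_cons, List.not_mem_nil, or_false] at hx
    rcases hx with rfl | rfl | rfl
    · simp
    · simp
    · simp [hc]
  ha s := by
    simp [wd, GDat.z_zero]
  hb t := by
    simp [wd, GDat.z_zero]
  h1 := by
    have := D.ht_pos b
    rw [hab]
    nlinarith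
  h2 := by
    have := D.ht_pos b
    rw [hab]
    nlinarith
  mem t := by
    have h1 := h t
    simpa [wd, mul_assoc] using h1

end cls

end Cfsg.Agent.H564.TWP
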