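import Cfsg.Agent.H564.TW.Dat
import Cfsg.Agent.H45.UniE.Main

/-!
# Own characteristic of twisted groups, any characteristic: interface (helper564, S3442)

* `TSys J C S` : the rank one data of a finite group `S` with a split `BN`-pair, arbitrary rank one groups, with coroot
  homomorphisms `hh j : C j →* S`, `C j` a cyclic group (`F_Qˣ`);
* `TSys.Tj` : the operators `T_j = ∑ u ∈ X j, u n_j`;
* `TSys.Wt k W` : every nonzero finite dimensional module has a common eigenvector;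
* `TSys.Map` : the homomorphism `φ : S →* G` into the algebraic group with fundamental functions `D : FDat ι Φ k G`;
  `orb i : J` the orbit of the simple root `i`, `e i` its exponent: `Δ i (φ (hh j b)) = (χ j b) ^ e i`, `orb i = j`.

Constructor from root group data (`Nodes.BNOf.RGD`): `H564/TWP/Rgd.lean`. Final theorems: `H564/TWP/Main.lean`.
-/

set_option autoImplicit false
set_option linter.unusedSectionVars false

namespace Cfsg.Agent.H564.TWP

open Cfsg.Agent.H45.UniE Finset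

/-- the rank one data of a finite group with a split `BN`-pair -/
structure TSys (J : Type*) (C : J → Type*) (S : Type*) [∀ j, CommGroup (C j)] [Group S] where
  /-- `U`, the positive unipotent group -/
  U : Subgroup S
  /-- `U⁻` -/
  Um : Subgroup S
  /-- the torus -/
  H : Subgroup S
  /-- the positive rank one groups, `X j ≤ U` -/
  X : J → Subgroup S
  /-- the negative rank one groups, `Y j ≤ U⁻` -/
  Y : J → Subgroup S
  /-- the positive complements, `U = X j V j` -/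
  V : J → Subgroup S
  /-- the negative complements, `U⁻ = Z j Y j` -/
  Z : J → Subgroup S
  n : J → S
  /-- the coroot elements -/
  hh : (j : J) → C j →* S
  gen : Subgroup.closure {g | g ∈ Um ∨ g ∈ H ∨ ∃ j, g = n j} = ⊤
  H_comm : ∀ s ∈ H, ∀ t ∈ H, s * t = t * s
  hh_mem : ∀ j b, hh j b ∈ H
  H_gen : H ≤ Subgroup.closure {g | ∃ j b, g = hh j b}
  n_sq : ∀ j, n j * n j ∈ H
  X_ne : ∀ j, X j ≠ ⊥
  X_le : ∀ j, X j ≤ U
  Y_le : ∀ j, Y j ≤ Um
  Z_le : ∀ j, Z j ≤ Um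
  U_eq : ∀ j, ∀ u ∈ U, ∃ x ∈ X j, ∃ v ∈ V j, u = x * v
  Um_eq : ∀ j, ∀ u ∈ Um, ∃ z ∈ Z j, ∃ y ∈ Y j, u = z * y
  V_le : ∀ j, V j ≤ U
  X_V : ∀ j, ∀ x ∈ X j, ∀ v ∈ V j, x⁻¹ * v * x ∈ V j
  n_V : ∀ j, ∀ v ∈ V j, (n j)⁻¹ * v * n j ∈ V j
  n_Z : ∀ j, ∀ z ∈ Z j, n j * z * (n j)⁻¹ ∈ Z j
  /-- `n j` conjugates `Y j` to `X j` -/
  n_Y : ∀ j, ∀ y ∈ Y j, n j * y * (n j)⁻¹ ∈ X j
  H_Um : ∀ h ∈ H, ∀ u ∈ Um, h * u * h⁻¹ ∈ Um
  /-- the rank one relation -/
  rank : ∀ j, ∀ u ∈ X j, u ≠ 1 → ∃ y ∈ Y j, ∃ b : C j, ∃ x ∈ X j, u * n j = y * hh j b * x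

namespace TSys

variable {J S : Type*} {C : J → Type*} [∀ j, CommGroup (C j)] [Group S] (E : TSys J C S)

section

variable [Finite S] {k W : Type*} [Field k] [AddCommGroup W] [Module k W]

/-- the operator `T_j = ∑ u ∈ X j, u n_j` -/
noncomputable def Tj (ρ : S →* Module.End k W) (j : J) (v : W) : W :=
  ∑ u ∈ (Set.toFinite (E.X j : Set S)).toFinset, ρ (u * E.n j) v

variable (k W) in
/-- **(O2)** every nonzero finite dimensional module has a common eigenvector -/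
def Wt : Prop := ∀ (ρ : S →* Module.End k W), FiniteDimensional k W → Nontrivial W →
    ∃ v : W, v ≠ 0 ∧ (∀ u ∈ E.U, ρ u v = v) ∧ (∀ h ∈ E.H, ∃ c : k, ρ h v = c • v) ∧
      ∀ j, ∃ μ : k, E.Tj ρ j v = μ • v

end

/-- the homomorphism into the algebraic group **(O3)** -/
structure Map {ι Φ k G : Type*} [Field k] [Group G] [DecidableEq ι] [DecidableEq J] (D : FDat ι Φ k G)
    (φ : S →* G) (χ : (j : J) → C j →* kˣ) (orb : ι → J) (e : ι → ℕ) : Prop where
  U : ∀ u ∈ E.U, φ u ∈ D.U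
  Um : ∀ u ∈ E.Um, φ u ∈ D.Um
  H : ∀ h ∈ E.H, φ h ∈ D.T
  hh : ∀ i j b, D.Δ i (φ (E.hh j b)) = if orb i = j then (χ j b : k) ^ e i else 1
  n : ∀ i j, D.Δ i (φ (E.n j)) = if orb i = j then 0 else 1
  e_pos : ∀ i, 0 < e i
  τ : ∀ g ∈ φ.range, D.τ g ∈ φ.range

end TSys

end Cfsg.Agent.H564.TWP
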